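import Mathlib.Algebra.QuadraticAlgebra.Defs
import Mathlib.Data.Matrix.Mul
import Mathlib.Data.ZMod.Basic

/-!
Vectors with 27 coordinates in the field of four elements, as bit masks: 27 bits for the coefficient
of one, then 27 bits for the coefficient of the root of `X ^ 2 = 1 + X`.
-/

set_option autoImplicit false

namespace H39.Fi22M

/-- The field of four elements. -/
abbrev Q4 : Type := QuadraticAlgebra (ZMod 2) (1 : ZMod 2) (1 : ZMod 2)

/-- A bit. -/
def bz (n k : ℕ) : ZMod 2 := bif Nat.testBit n k then 1 else 0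

/-- The scalar of a code below four. -/
def sc4 (c : ℕ) : Q4 := ⟨bz c 0, bz c 1⟩

/-- The vector of a mask. -/
def vecB (v : ℕ) : Fin 27 → Q4 := fun i => ⟨bz v i, bz v (27 + i)⟩

/-- The mask, or nothing. -/
def sel (n k x : ℕ) : ℕ := bif Nat.testBit n k then x else 0

/-- Multiplication by the root. -/
def mulW (v : ℕ) : ℕ :=
  (v >>> 27) % 2 ^ 27 ||| ((v ^^^ (v >>> 27)) % 2 ^ 27) <<< 27

/-- Multiplication by a scalar. -/
def smulB (n i j v : ℕ) : ℕ := sel n i v ^^^ sel n j (mulW v)

theorem bz_xor (x y k : ℕ) : bz (x ^^^ y) k = bz x k + bz y k := by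
  simp only [bz, Nat.testBit_xor]
  cases Nat.testBit x k <;> cases Nat.testBit y k <;> rfl

theorem vecB_zero : vecB 0 = 0 := by
  funext i; ext <;> simp [vecB, bz]

theorem vecB_xor (x y : ℕ) : vecB (x ^^^ y) = vecB x + vecB y := by
  funext i; ext <;> simp [vecB, bz_xor]

theorem vecB_mulW (v : ℕ) (i : Fin 27) :
    vecB (mulW v) i = ⟨bz v (27 + i), bz v i + bz v (27 + i)⟩ := by
  have hi := i.isLt
  have h1 : Nat.testBit (mulW v) i = Nat.testBit v (27 + i) := by
    simp only [mulW, Nat.testBit_or, Nat.testBit_mod_two_pow, Nat.testBit_shiftLeft,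
      Nat.testBit_shiftRight, hi, ge_iff_le, show ¬ 27 ≤ (i : ℕ) by omega, decide_false, decide_true,
      Bool.false_and, Bool.true_and, Bool.or_false]
  have h2 : Nat.testBit (mulW v) (27 + i) = (Nat.testBit v i ^^ Nat.testBit v (27 + i)) := by
    simp only [mulW, Nat.testBit_or, Nat.testBit_mod_two_pow, Nat.testBit_shiftLeft,
      Nat.testBit_shiftRight, hi, ge_iff_le, show ¬ 27 + (i : ℕ) < 27 by omega,
      show 27 ≤ 27 + (i : ℕ) by omega, show 27 + (i : ℕ) - 27 = i by omega, Nat.testBit_xor,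
      decide_false, decide_true, Bool.false_and, Bool.true_and, Bool.false_or]
  ext
  · simp [vecB, bz, h1]
  · simp only [vecB, bz, h2]
    cases Nat.testBit v i <;> cases Nat.testBit v (27 + i) <;> rfl

theorem vecB_smulB (n i j v : ℕ) : vecB (smulB n i j v) = (⟨bz n i, bz n j⟩ : Q4) • vecB v := by
  have hsel : ∀ k x, vecB (sel n k x) = fun t => (⟨bz n k * (vecB x t).re, bz n k * (vecB x t).im⟩ : Q4) := by
    intro k x
    funext t
    by_cases h : Nat.testBit n k
    · simp [sel, bz, h]
    · simp only [sel, bz, h, cond_false, vecB_zero]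
      ext <;> simp
  rw [smulB, vecB_xor, hsel, hsel]
  funext t
  rw [Pi.smul_apply, smul_eq_mul, Pi.add_apply, vecB_mulW]
  ext <;> simp [vecB] <;> ring

/-- A combination of columns. -/
def applyB : List ℕ → ℕ → ℕ → ℕ
  | [], _, _ => 0
  | c :: cs, o, v => smulB v o (27 + o) c ^^^ applyB cs (o + 1) v

theorem vecB_applyB : ∀ (cs : List ℕ) (o v : ℕ), vecB (applyB cs o v) =
    ∑ j ∈ Finset.range cs.length, (⟨bz v (o + j), bz v (27 + (o + j))⟩ : Q4) • vecB (cs.getD j 0)
  | [], o, v => by simp [applyB, vecB_zero]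
  | c :: cs, o, v => by
    rw [applyB, vecB_xor, vecB_smulB, vecB_applyB cs (o + 1) v, List.length_cons,
      Finset.sum_range_succ']
    simp only [List.getD_cons_succ, List.getD_cons_zero, Nat.add_zero]
    rw [add_comm]
    congr 1
    refine Finset.sum_congr rfl fun j _ => ?_
    rw [Nat.add_assoc o 1 j, Nat.add_comm 1 j]

/-- The matrix with the given columns. -/
def matB (cols : List ℕ) : Matrix (Fin 27) (Fin 27) Q4 := fun i k => vecB (cols.getD k 0) i

/-- A word of matrices applied to a vector. -/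
def evB (G : List (List ℕ)) (w : List ℕ) (v : ℕ) : ℕ := w.foldr (fun g a => applyB (G.getD g []) 0 a) v

/-- The columns are 27 in number. -/
def lenOK (G : List (List ℕ)) (w : List ℕ) : Bool := w.all fun g => (G.getD g []).length == 27

/-- Two words differ by a scalar. -/
def wordsB (G : List (List ℕ)) (u v : List ℕ) (c : ℕ) : Bool :=
  lenOK G u && lenOK G v && (List.range 27).all fun k => evB G u (2 ^ k) == smulB c 0 1 (evB G v (2 ^ k))

theorem evB_spec (G : List (List ℕ)) : ∀ (w : List ℕ) (v : ℕ), lenOK G w = true →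
    vecB (evB G w v) = Matrix.mulVec (w.map fun g => matB (G.getD g [])).prod (vecB v)
  | [], v, _ => by simp [evB]
  | g :: w, v, h => by
    simp only [lenOK, List.all_cons, Bool.and_eq_true, beq_iff_eq] at h
    show vecB (applyB (G.getD g []) 0 (evB G w v)) = _
    rw [vecB_applyB, h.1, List.map_cons, List.prod_cons, ← Matrix.mulVec_mulVec,
      ← evB_spec G w v h.2]
    funext i
    rw [Matrix.mulVec, dotProduct, Finset.sum_apply, Finset.sum_range]
    refine Finset.sum_congr rfl fun k _ => ?_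
    simp only [Pi.smul_apply, smul_eq_mul, Nat.zero_add, matB, vecB]
    rw [mul_comm]

theorem vecB_two_pow (k : Fin 27) : vecB (2 ^ (k : ℕ)) = Pi.single k 1 := by
  funext i
  have h1 : ∀ j : ℕ, Nat.testBit (2 ^ (k : ℕ)) j = decide ((k : ℕ) = j) := fun j => Nat.testBit_two_pow
  rcases eq_or_ne i k with h | h
  · subst h
    ext <;> simp [vecB, bz, h1, QuadraticAlgebra.re_one, QuadraticAlgebra.im_one]
  · have hv := Fin.val_ne_of_ne h.symm
    ext <;> simp [vecB, bz, h1, hv, show (k : ℕ) ≠ 27 + i by omega, Pi.single_eq_of_ne h]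

theorem wordsB_spec {G : List (List ℕ)} {u v : List ℕ} {c : ℕ} (h : wordsB G u v c = true) :
    (u.map fun g => matB (G.getD g [])).prod = sc4 c • (v.map fun g => matB (G.getD g [])).prod := by
  simp only [wordsB, Bool.and_eq_true, List.all_eq_true, List.mem_range, beq_iff_eq] at h
  refine Matrix.ext_of_mulVec_single fun k => ?_
  have e := congrArg vecB (h.2 k k.isLt)
  rw [vecB_smulB, evB_spec G u _ h.1.1, evB_spec G v _ h.1.2, vecB_two_pow] at e
  rw [e, Matrix.smul_mulVec]
  rfl

end H39.Fi22M
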