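import Cfsg.Agent.H39.Fi22M.CertData

/-!
The checked derivations.
-/

set_option maxRecDepth 100000
set_option autoImplicit false

namespace H39.Fi22M

/-- The first relator of the Coxeter kind. -/
def wA : List ℕ := [0, 1, 2, 3, 4, 5, 7]
/-- The second. -/
def wB : List ℕ := [1, 2, 3, 4, 5, 6, 7]
/-- The auxiliary one. -/
def wC : List ℕ := [2, 3, 4, 5, 6, 7, 8]
/-- The spider. -/
def wS : List ℕ := [3, 2, 1, 3, 4, 5, 3, 7, 8]

/-- Repetition. -/
def rep : ℕ → List ℕ → List ℕ
  | 0, _ => []
  | n + 1, w => w ++ rep n w

/-- The spider relator. -/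
def spider : List ℕ := rep 10 wS

/-- Conjugators and signs expressing three times the spider. -/
def vdec : List (List ℕ × Bool) :=
  [([2, 5, 8, 7], false), ([3, 2, 4, 3], false)]

/-- A word worth the inverse cube of the spider in a group where it is central. -/
def vWord : List ℕ :=
  (rep 3 spider).reverse ++ vdec.flatMap fun q =>
    bif q.2 then q.1 ++ spider ++ q.1.reverse ++ spider.reverse
    else spider ++ q.1 ++ spider.reverse ++ q.1.reverse

theorem certU_ok : runW certU ([], rep 18 wA) 0 = some 63 := by decide +kernel
theorem certU2_ok : runW certU2 ([], rep 18 wB) 0 = some 63 := by decide +kernel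
theorem certV_ok : runW certV ([], vWord) 0 = some 323 := by decide +kernel

end H39.Fi22M
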