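import Cfsg.Agent.H39.Fi22M.Rep27
import Cfsg.Agent.H39.Fi22M.Certs

/-!
Checks for the 27-dimensional matrices.
-/

set_option autoImplicit false
set_option maxRecDepth 100000

namespace H39.Fi22M.Rep27

theorem sq_ok : (List.range 9).all (fun x => wordsB mats [x, x] [] 1) = true := by
  decide +kernel

theorem pairs_ok : (List.range 9).all (fun x => (List.range 9).all fun y =>
    x == y || bif nb x y then wordsB mats [x, y, x] [y, x, y] 1
      else wordsB mats [x, y] [y, x] 1) = true := by decide +kernel

theorem wA_ok : wordsB mats (rep 9 wA) [] 1 = true := by decide +kernel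

theorem wB_ok : wordsB mats (rep 9 wB) [] 1 = true := by decide +kernel

theorem spider_ok : wordsB mats spider [] 3 = true := by decide +kernel

end H39.Fi22M.Rep27
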