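import Cfsg.Prelude.Def_KGroupFacts
import Cfsg.Agent.H96.Fi22O7
import Cfsg.Agent.H39.Fi22M.Certs

/-!
Kernels of stem extensions of Fi22 are cyclic of order dividing six.
-/

set_option autoImplicit false
set_option maxRecDepth 100000

namespace H39.Fi22M

open Subgroup
open scoped commutatorElement
open H93 H93.Coset

abbrev F22 : Type := Cfsg.Spor.Fi22
noncomputable abbrev g22 : ℕ → F22 := H96.Fi22O7.gen

theorem pr_eq_ev {G : Type*} [Group G] (f : ℕ → G) (w : List ℕ) : pr f w = ev f w.reverse := by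
  rw [ev_eq_prod, ← List.map_reverse, List.reverse_reverse]; rfl

theorem pr_rep {M : Type*} [Monoid M] (f : ℕ → M) : ∀ (n : ℕ) (w : List ℕ),
    pr f (rep n w) = pr f w ^ n
  | 0, w => by simp [rep, pr]
  | n + 1, w => by rw [rep, pr_append, pr_rep f n, pow_succ']

theorem pr_reverse {Γ : Type*} [Group Γ] (f : ℕ → Γ) : ∀ w : List ℕ,
    (∀ k ∈ w, f k * f k = 1) → pr f w.reverse = (pr f w)⁻¹
  | [], _ => by simp [pr]
  | a :: w, h => by
    rw [List.reverse_cons, pr_append, pr_reverse f w fun k hk => h k (List.mem_cons_of_mem _ hk)]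
    have ha : (f a)⁻¹ = f a := inv_eq_of_mul_eq_one_right (h a List.mem_cons_self)
    simp [pr, ha]

/-- A word is trivial in Fi22, checked in the table. -/
noncomputable def triv (w : List ℕ) : Bool :=
  w.reverse.all (fun g => decide (g < 9)) && H96.Fi22O7.D.relOK w.reverse 0 H96.Fi22O7.D.n

theorem eq_one_of_triv {w : List ℕ} (h : triv w = true) : pr g22 w = 1 := by
  rw [triv, Bool.and_eq_true] at h
  rw [pr_eq_ev]; exact H96.Fi22O7.word_eq_one h.1 h.2

/-- The relations checked downstairs. -/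
def pairWord (x y : ℕ) : List ℕ :=
  bif nb x y then [x, y, x, y, x, y] else bif x == y then [x, x] else [x, y, x, y]

theorem pairs_ok : ∀ x < 9, ∀ y < 9, triv (pairWord x y) = true := by decide +kernel

theorem words_ok : ∀ w ∈ [rep 9 wA, rep 9 wB, rep 9 wC, spider], triv w = true := by decide +kernel

theorem adj_ok : (∀ q ∈ adj, q.1 < 9 ∧ q.2 < 9 ∧ q.1 ≠ q.2) ∧
    (∀ x < 9, nb x x = false) ∧ (∀ x < 9, ∀ y < 9, nb x y = nb y x) := by decide +kernel

theorem g22_sq {x : ℕ} (hx : x < 9) : g22 x * g22 x = 1 := H96.Fi22O7.sq1 hx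

theorem g22_inv {x : ℕ} (hx : x < 9) : (g22 x)⁻¹ = g22 x := inv_eq_of_mul_eq_one_right (g22_sq hx)

theorem g22_braid {x y : ℕ} (hx : x < 9) (hy : y < 9) (h : nb x y = true) :
    g22 x * g22 y * g22 x = g22 y * g22 x * g22 y := by
  have h1 := eq_one_of_triv (pairs_ok x hx y hy)
  rw [pairWord, h, cond_true] at h1
  simp only [pr, List.map_cons, List.map_nil, List.prod_cons, List.prod_nil, mul_one] at h1
  have h2 : g22 x * g22 y * g22 x * (g22 y * g22 x * g22 y) = 1 := by simpa [mul_assoc] using h1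
  rw [eq_inv_of_mul_eq_one_left h2, mul_inv_rev, mul_inv_rev, g22_inv hx, g22_inv hy]
  simp [mul_assoc]

theorem g22_comm {x y : ℕ} (hx : x < 9) (hy : y < 9) (hne : x ≠ y) (h : nb x y = false) :
    g22 x * g22 y = g22 y * g22 x := by
  have h1 := eq_one_of_triv (pairs_ok x hx y hy)
  rw [pairWord, h, cond_false, beq_eq_false_iff_ne.2 hne, cond_false] at h1
  simp only [pr, List.map_cons, List.map_nil, List.prod_cons, List.prod_nil, mul_one] at h1
  have h2 : g22 x * g22 y * (g22 x * g22 y) = 1 := by simpa [mul_assoc] using h1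
  rw [eq_inv_of_mul_eq_one_left h2, mul_inv_rev, g22_inv hx, g22_inv hy]

section lifts

variable {Γ G : Type*} [Group Γ] [Group G] {σ : Γ →* G}

theorem central_of_map (hc : σ.ker ≤ center Γ) {x y : Γ} (h : σ x = σ y) :
    ∃ z ∈ center Γ, x = z * y := by
  refine ⟨x * y⁻¹, hc ?_, by rw [inv_mul_cancel_right]⟩
  rw [MonoidHom.mem_ker, map_mul, map_inv, h, mul_inv_cancel]

/-- The lift of a neighbour satisfying the braid relation exactly. -/
theorem exists_nb (hc : σ.ker ≤ center Γ) (x y0 : Γ) (hsx : x * x ∈ center Γ)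
    (hb : σ x * σ y0 * σ x = σ y0 * σ x * σ y0) :
    ∃ y, σ y = σ y0 ∧ y * y = x * x ∧ x * y * x = y * x * y := by
  obtain ⟨z, hz, e⟩ := central_of_map (σ := σ) hc (x := x * y0 * x) (y := y0 * x * y0)
    (by simpa using hb)
  have hy : x * y0 * x * (x * y0)⁻¹ = z * y0 := by
    rw [e, mul_inv_rev]; group
  refine ⟨x * y0 * x * (x * y0)⁻¹, ?_, ?_, ?_⟩
  · simp only [map_mul, map_inv, hb]; group
  · calc x * y0 * x * (x * y0)⁻¹ * (x * y0 * x * (x * y0)⁻¹)
        = x * y0 * (x * x) * (x * y0)⁻¹ := by group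
      _ = x * x := by rw [mem_center_iff.1 hsx (x * y0), mul_inv_cancel_right]
  · rw [hy]
    have hz' : ∀ a : Γ, a * z = z * a := fun a => mem_center_iff.1 hz a
    calc x * (z * y0) * x = z * (x * y0 * x) := by rw [← mul_assoc x, hz' x]; group
      _ = z * y0 * x * (z * y0) := by
        rw [e, ← mul_assoc (z * y0 * x), hz' (z * y0 * x)]; group

/-- Commutation spreads along a braid. -/
theorem comm_step (hc : σ.ker ≤ center Γ) {a b x : Γ} (hax : a * x = x * a)
    (hab : a * b * a = b * a * b) (hbx : σ b * σ x = σ x * σ b) : b * x = x * b := by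
  obtain ⟨z, hz, e⟩ := central_of_map (σ := σ) hc (x := b * x) (y := x * b) (by simpa using hbx)
  have hz' : ∀ u : Γ, u * z = z * u := fun u => mem_center_iff.1 hz u
  have h1 : a * b * x = z * x * (a * b) := by
    rw [mul_assoc a b, e, ← mul_assoc a, hz' a, mul_assoc z a, ← mul_assoc a x, hax]; group
  have hbc : b = a * b * a * (a * b)⁻¹ := by rw [hab]; group
  have h2 : b * (z * x) = z * x * b := by
    calc b * (z * x) = a * b * a * (a * b)⁻¹ * (z * x) := by rw [← hbc]
      _ = a * b * a * (a * b)⁻¹ * (z * x * (a * b)) * (a * b)⁻¹ := by group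
      _ = a * b * a * (a * b)⁻¹ * (a * b * x) * (a * b)⁻¹ := by rw [h1]
      _ = a * b * (a * x) * (a * b)⁻¹ := by group
      _ = a * b * x * a * (a * b)⁻¹ := by rw [hax]; group
      _ = z * x * (a * b * a * (a * b)⁻¹) := by rw [h1]; group
      _ = z * x * b := by rw [← hbc]
  rw [← mul_assoc b, hz' b, mul_assoc z b x, mul_assoc z x b] at h2
  exact mul_left_cancel h2

end lifts

/-- Pairs that commute, each from an earlier one and a braid. -/
def commSteps : List (ℕ × ℕ × ℕ) :=
  [(1, 3, 0), (1, 4, 0), (1, 5, 0), (1, 6, 0), (1, 7, 0), (1, 8, 0),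
   (2, 4, 1), (2, 5, 1), (2, 6, 1), (2, 7, 1), (2, 8, 1),
   (3, 5, 2), (3, 6, 2), (3, 8, 2), (4, 6, 3), (4, 8, 3), (5, 8, 4), (6, 8, 5),
   (7, 4, 8), (7, 5, 8), (7, 6, 8)]

/-- The pairs known before step `i`. -/
def known (i : ℕ) : List (ℕ × ℕ) :=
  ([2, 3, 4, 5, 6, 7, 8].map fun x => (0, x)) ++ (commSteps.take i).map fun q => (q.1, q.2.1)

theorem steps_ok : ∀ i < commSteps.length,
    let q := commSteps.getD i (0, 0, 0)
    q.1 < 9 ∧ q.2.1 < 9 ∧ q.2.2 < 9 ∧ q.1 ≠ q.2.1 ∧ nb q.2.2 q.1 = true ∧ nb q.1 q.2.1 = false ∧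
      ((q.2.2, q.2.1) ∈ known i ∨ (q.2.1, q.2.2) ∈ known i) := by decide +kernel

theorem all_known : (List.range 9).all (fun x => (List.range 9).all fun y =>
    x == y || nb x y || (known commSteps.length).contains (x, y) ||
      (known commSteps.length).contains (y, x)) = true := by decide +kernel

variable {Γ : Type*} [Group Γ]

/-- Lifts in which the Coxeter relations hold exactly up to one square. -/
theorem exists_exact (σ : Γ →* F22) (hσ : Cfsg.IsStemExtension σ) :
    ∃ (f : ℕ → Γ) (s : Γ), (∀ k, σ (f k) = g22 k) ∧ Exact f s := by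
  classical
  obtain ⟨hsurj, hc, -⟩ := hσ
  choose f0 hf0 using fun k => hsurj (g22 k)
  have hb : ∀ x < 9, ∀ y < 9, nb x y = true →
      σ (f0 x) * σ (f0 y) * σ (f0 x) = σ (f0 y) * σ (f0 x) * σ (f0 y) := fun x hx y hy h => by
    simp only [hf0]; exact g22_braid hx hy h
  have hs0 : f0 0 * f0 0 ∈ center Γ := hc (by rw [MonoidHom.mem_ker, map_mul, hf0, g22_sq (by norm_num)])
  have step : ∀ (x y : ℕ) (X : Γ), x < 9 → y < 9 → nb x y = true → σ X = g22 x →
      X * X = f0 0 * f0 0 → ∃ Y, σ Y = g22 y ∧ Y * Y = f0 0 * f0 0 ∧ X * Y * X = Y * X * Y := by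
    intro x y X hx hy h hX hXX
    obtain ⟨Y, h1, h2, h3⟩ := exists_nb hc X (f0 y) (hXX ▸ hs0) (by rw [hX, ← hf0 x]; exact hb x hx y hy h)
    exact ⟨Y, h1.trans (hf0 y), h2.trans hXX, h3⟩
  obtain ⟨B, hB, hB2, hAB⟩ := step 0 1 (f0 0) (by norm_num) (by norm_num) rfl (hf0 0) rfl
  obtain ⟨C, hC, hC2, hBC⟩ := step 1 2 B (by norm_num) (by norm_num) rfl hB hB2
  obtain ⟨D, hD, hD2, hCD⟩ := step 2 3 C (by norm_num) (by norm_num) rfl hC hC2
  obtain ⟨E, hE, hE2, hDE⟩ := step 3 4 D (by norm_num) (by norm_num) rfl hD hD2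
  obtain ⟨F, hF, hF2, hEF⟩ := step 4 5 E (by norm_num) (by norm_num) rfl hE hE2
  obtain ⟨G, hG, hG2, hFG⟩ := step 5 6 F (by norm_num) (by norm_num) rfl hF hF2
  obtain ⟨H, hH, hH2, hDH⟩ := step 3 7 D (by norm_num) (by norm_num) rfl hD hD2
  obtain ⟨I, hI, hI2, hHI⟩ := step 7 8 H (by norm_num) (by norm_num) rfl hH hH2
  let f : ℕ → Γ := fun k => match k with
    | 1 => B | 2 => C | 3 => D | 4 => E | 5 => F | 6 => G | 7 => H | 8 => I | k => f0 k
  have hf : ∀ k, σ (f k) = g22 k := fun k => by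
    match k with
    | 0 => exact hf0 0
    | 1 => exact hB
    | 2 => exact hC
    | 3 => exact hD
    | 4 => exact hE
    | 5 => exact hF
    | 6 => exact hG
    | 7 => exact hH
    | 8 => exact hI
    | k + 9 => exact hf0 _
  set s := f0 0 * f0 0 with hs
  have hsq : ∀ x < 9, f x * f x = s := fun x hx => by
    interval_cases x <;> first | rfl | assumption
  have hadj : ∀ q ∈ adj, f q.1 * f q.2 * f q.1 = f q.2 * f q.1 * f q.2 := by
    intro q hq
    simp only [adj, List.mem_cons, List.not_mem_nil, or_false] at hq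
    rcases hq with rfl | rfl | rfl | rfl | rfl | rfl | rfl | rfl <;> assumption
  have hbr : ∀ x y, nb x y = true → f x * f y * f x = f y * f x * f y := by
    intro x y h
    simp only [nb, Bool.or_eq_true, List.contains_iff_mem] at h
    exact h.elim (hadj (x, y)) fun h => (hadj (y, x) h).symm
  have hz' : ∀ {z : Γ}, z ∈ center Γ → ∀ u, u * z = z * u := fun h u => mem_center_iff.1 h u
  -- the first generator
  have hchi : ∀ x ∈ [2, 3, 4, 5, 6, 7, 8], ∃ z ∈ center Γ, f 0 * f x * (f 0)⁻¹ = z * f x := by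
    intro x hx
    have h := (show ∀ x ∈ [2, 3, 4, 5, 6, 7, 8], x < 9 ∧ 0 ≠ x ∧ nb 0 x = false by decide) x hx
    refine central_of_map hc (σ := σ) ?_
    rw [map_mul, map_mul, map_inv, hf, hf, g22_comm (by norm_num) h.1 h.2.1 h.2.2,
      mul_inv_cancel_right]
  choose! χ hχc hχ using hchi
  have hχb : ∀ x ∈ [2, 3, 4, 5, 6, 7, 8], ∀ y ∈ [2, 3, 4, 5, 6, 7, 8], nb x y = true → χ x = χ y := by
    intro x hx y hy h
    have hconj := congrArg (MulAut.conj (f 0)) (hbr x y h)
    simp only [map_mul, MulAut.conj_apply, hχ x hx, hχ y hy] at hconj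
    have cx := hz' (hχc x hx)
    have cy := hz' (hχc y hy)
    have e1 : χ x * f x * (χ y * f y) * (χ x * f x) = χ x * χ x * χ y * (f x * f y * f x) := by
      simp only [← mul_assoc]
      rw [mul_assoc (χ x) (f x) (χ y), cy (f x), ← mul_assoc,
        mul_assoc (χ x * χ y * f x * f y), ← mul_assoc]
      rw [show χ x * χ y * f x * f y * χ x = χ x * χ x * χ y * f x * f y by
        rw [cx (χ x * χ y * f x * f y)]; simp only [mul_assoc]]
    have e2 : χ y * f y * (χ x * f x) * (χ y * f y) = χ y * χ y * χ x * (f y * f x * f y) := by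
      simp only [← mul_assoc]
      rw [mul_assoc (χ y) (f y) (χ x), cx (f y), ← mul_assoc,
        mul_assoc (χ y * χ x * f y * f x), ← mul_assoc]
      rw [show χ y * χ x * f y * f x * χ y = χ y * χ y * χ x * f y * f x by
        rw [cy (χ y * χ x * f y * f x)]; simp only [mul_assoc]]
    rw [e1, e2, hbr x y h] at hconj
    have h3 := mul_right_cancel hconj
    rw [mul_assoc (χ y), cx (χ y), ← mul_assoc, cx (χ y), mul_assoc (χ x) (χ y), mul_assoc (χ x) (χ x)] at h3
    exact mul_right_cancel (mul_left_cancel h3)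
  have hχ2 : ∀ x ∈ [2, 3, 4, 5, 6, 7, 8], χ x * χ x = 1 := by
    intro x hx
    have hx9 := (show ∀ x ∈ [2, 3, 4, 5, 6, 7, 8], x < 9 by decide) x hx
    have hconj := congrArg (MulAut.conj (f 0)) (hsq x hx9)
    simp only [map_mul, MulAut.conj_apply, hχ x hx] at hconj
    rw [hz' hs0 (f 0), mul_inv_cancel_right, ← mul_assoc, mul_assoc (χ x) (f x), hz' (hχc x hx),
      ← mul_assoc, mul_assoc (χ x * χ x), hsq x hx9] at hconj
    exact mul_eq_right.1 hconj
  set c := χ 2 with hcdef
  have hχall : ∀ x ∈ [2, 3, 4, 5, 6, 7, 8], χ x = c := by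
    have m : ∀ x, 2 ≤ x → x ≤ 8 → x ∈ [2, 3, 4, 5, 6, 7, 8] := fun x h1 h2 => by
      interval_cases x <;> simp
    have e := fun x y h1 h2 h3 h4 h => hχb x (m x h1 h2) y (m y h3 h4) h
    have e23 := e 2 3 (by norm_num) (by norm_num) (by norm_num) (by norm_num) rfl
    have e34 := e 3 4 (by norm_num) (by norm_num) (by norm_num) (by norm_num) rfl
    have e45 := e 4 5 (by norm_num) (by norm_num) (by norm_num) (by norm_num) rfl
    have e56 := e 5 6 (by norm_num) (by norm_num) (by norm_num) (by norm_num) rfl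
    have e37 := e 3 7 (by norm_num) (by norm_num) (by norm_num) (by norm_num) rfl
    have e78 := e 7 8 (by norm_num) (by norm_num) (by norm_num) (by norm_num) rfl
    intro x hx
    simp only [List.mem_cons, List.not_mem_nil, or_false] at hx
    rcases hx with rfl | rfl | rfl | rfl | rfl | rfl | rfl <;>
      simp only [hcdef, ← e78, ← e37, ← e56, ← e45, ← e34, ← e23]
  have hc1 : c = 1 := by
    have hP : pr f (rep 9 wC) ∈ center Γ := hc (by
      rw [MonoidHom.mem_ker, map_pr, pr_congr (g := g22) fun k _ => hf k,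
        eq_one_of_triv (words_ok _ (by simp))])
    have hcc := hz' (hχc 2 (by simp))
    have hw : ∀ w : List ℕ, (∀ x ∈ w, x ∈ [2, 3, 4, 5, 6, 7, 8]) →
        MulAut.conj (f 0) (pr f w) = c ^ w.length * pr f w := by
      intro w
      induction w with
      | nil => intro _; simp [pr]
      | cons a w ih =>
        intro h
        have e : pr f (a :: w) = f a * pr f w := by simp [pr]
        rw [e, map_mul, ih fun x hx => h x (List.mem_cons_of_mem _ hx), MulAut.conj_apply,
          hχ a (h a List.mem_cons_self), hχall a (h a List.mem_cons_self), List.length_cons,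
          pow_succ', ← mul_assoc, mul_assoc c (f a), hz' (pow_mem (hχc 2 (by simp)) _) (f a)]
        simp only [mul_assoc]
        rfl
    have h1 := hw (rep 9 wC) (by decide +kernel)
    rw [MulAut.conj_apply, hz' hP (f 0), mul_inv_cancel_right, eq_comm, mul_eq_right,
      show (rep 9 wC).length = 2 * 31 + 1 from rfl, pow_succ, pow_mul, pow_two, hχ2 2 (by simp),
      one_pow, one_mul] at h1
    exact h1
  have h0 : ∀ x ∈ [2, 3, 4, 5, 6, 7, 8], f 0 * f x = f x * f 0 := by
    intro x hx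
    have := hχ x hx
    rw [hχall x hx, hc1, one_mul] at this
    exact mul_inv_eq_iff_eq_mul.1 this
  have hknown : ∀ i ≤ commSteps.length, ∀ p ∈ known i, f p.1 * f p.2 = f p.2 * f p.1 := by
    intro i
    induction i with
    | zero =>
      intro _ p hp
      simp only [known, List.take_zero, List.map_nil, List.append_nil, List.mem_map] at hp
      obtain ⟨x, hx, rfl⟩ := hp
      exact h0 x hx
    | succ i ih =>
      intro hi p hp
      obtain ⟨hy, hx, ha, hne, hab, hyx, hk⟩ := steps_ok i hi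
      simp only [known, List.take_succ_eq_append_getElem hi, List.map_append, List.map_cons,
        List.map_nil, ← List.append_assoc, List.mem_append, List.mem_singleton] at hp
      rcases hp with hp | rfl
      · exact ih (Nat.le_of_lt hi) p (by simp only [known, List.mem_append]; exact hp)
      rw [List.getD_eq_getElem _ _ hi] at hy hx ha hne hab hyx hk
      refine comm_step hc (a := f (commSteps[i].2.2)) ?_ (hbr _ _ hab) ?_
      · rcases hk with hk | hk
        · exact ih (Nat.le_of_lt hi) _ hk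
        · exact (ih (Nat.le_of_lt hi) _ hk).symm
      · rw [hf, hf]; exact g22_comm hy hx hne hyx
  refine ⟨f, s, hf, ⟨hs0, hsq, fun x hx y hy hne h => ?_, fun x _ y _ h => hbr x y h⟩⟩
  have hk := List.all_eq_true.1 (List.all_eq_true.1 all_known x (List.mem_range.2 hx)) y
    (List.mem_range.2 hy)
  simp only [Bool.or_eq_true, beq_iff_eq, List.contains_iff_mem, h, hne, false_or,
    Bool.false_eq_true] at hk
  rcases hk with h' | h'
  · exact hknown _ le_rfl _ h'
  · exact (hknown _ le_rfl _ h').symm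

/-- Lifts with exact squares in which the first long relator holds too. -/
theorem exists_good (σ : Γ →* F22) (hσ : Cfsg.IsStemExtension σ) :
    ∃ f : ℕ → Γ, (∀ k, σ (f k) = g22 k) ∧ Exact f 1 ∧ pr f (rep 9 wA) = 1 := by
  obtain ⟨f, s, hf, hE⟩ := exists_exact σ hσ
  set u := pr f (rep 9 wA) with hu
  have hker : u ∈ σ.ker := by
    rw [MonoidHom.mem_ker, hu, map_pr, pr_congr (g := g22) fun k _ => hf k,
      eq_one_of_triv (words_ok _ (by simp))]
  have hu2 : u * u = s ^ 63 := by
    rw [hu, ← pr_append, show rep 9 wA ++ rep 9 wA = rep 18 wA by decide +kernel]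
    exact pr_of_runW hE certU_ok
  have huc : ∀ a, a * u = u * a := fun a => mem_center_iff.1 (hσ.2.1 hker) a
  set r := u * (s ^ 31)⁻¹ with hr
  have hrc : r ∈ center Γ := mul_mem (hσ.2.1 hker) (inv_mem (pow_mem hE.cen _))
  have hrk : r ∈ σ.ker := by
    refine mul_mem hker (inv_mem (pow_mem ?_ _))
    rw [MonoidHom.mem_ker, ← hE.sq 0 (by norm_num), map_mul, hf, g22_sq (by norm_num)]
  have hr2 : r * r = s := by
    have hcs : Commute u (s ^ 31)⁻¹ := (huc _).symm
    rw [hr, hcs.symm.mul_mul_mul_comm, hu2, ← mul_inv_rev, ← pow_add, mul_inv_eq_iff_eq_mul,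
      ← pow_succ']
  have hr' : ∀ a, a * r⁻¹ = r⁻¹ * a := fun a => mem_center_iff.1 (inv_mem hrc) a
  have hpr : ∀ w : List ℕ, pr (fun k => r⁻¹ * f k) w = r⁻¹ ^ w.length * pr f w := by
    intro w
    induction w with
    | nil => simp [pr]
    | cons a w ih =>
      have e : ∀ g : ℕ → Γ, pr g (a :: w) = g a * pr g w := fun g => by simp [pr]
      rw [e, e, ih, List.length_cons, pow_succ', mul_assoc, ← mul_assoc (f a),
        mem_center_iff.1 (pow_mem (inv_mem hrc) _) (f a)]
      simp only [mul_assoc]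
  have h2 : ∀ x y, pr (fun k => r⁻¹ * f k) [x, y] = r⁻¹ ^ 2 * (f x * f y) := fun x y => by
    rw [hpr]; simp [pr]
  have h3 : ∀ x y, pr (fun k => r⁻¹ * f k) [x, y, x] = r⁻¹ ^ 3 * (f x * f y * f x) := fun x y => by
    rw [hpr]; simp [pr, mul_assoc]
  refine ⟨fun k => r⁻¹ * f k, fun k => ?_, ⟨one_mem _, fun x hx => ?_, fun x hx y hy hne h => ?_,
    fun x hx y hy h => ?_⟩, ?_⟩
  · rw [map_mul, map_inv, MonoidHom.mem_ker.1 hrk, inv_one, one_mul, hf]
  · have := h2 x x
    simp only [pr, List.map_cons, List.map_nil, List.prod_cons, List.prod_nil, mul_one] at this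
    rw [this, hE.sq x hx, ← hr2, pow_two, mul_assoc, inv_mul_cancel_left, inv_mul_cancel]
  · have e1 := h2 x y
    have e2 := h2 y x
    simp only [pr, List.map_cons, List.map_nil, List.prod_cons, List.prod_nil, mul_one] at e1 e2
    rw [e1, e2, hE.comm x hx y hy hne h]
  · have e1 := h3 x y
    have e2 := h3 y x
    simp only [pr, List.map_cons, List.map_nil, List.prod_cons, List.prod_nil, mul_one,
      ← mul_assoc] at e1 e2
    simp only [← mul_assoc]
    rw [e1, e2, mul_assoc _ (f x), mul_assoc _ (f x * f y), hE.braid x hx y hy h]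
    simp only [mul_assoc]
  · rw [hpr, show (rep 9 wA).length = 2 * 31 + 1 from rfl, inv_pow, inv_mul_eq_one, pow_succ,
      pow_mul, pow_two, hr2, hr, ← hu]
    rw [← mul_assoc, huc (s ^ 31), mul_inv_cancel_right]

theorem vdec_lt : ∀ q ∈ vdec, ∀ k ∈ q.1, k < 9 := by decide +kernel

theorem spider_lt : ∀ k ∈ spider, k < 9 := by decide +kernel

theorem relators_eq_one {Δ : Type*} [Group Δ] (f : ℕ → Δ) (hE : Exact f 1)
    (hA : pr f (rep 9 wA) = 1) (hB : pr f (rep 9 wB) = 1) (hS : pr f spider = 1) :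
    ∀ r ∈ Cfsg.Spor.coxRelators Cfsg.Spor.Fi22.edges ∪ {r | r ∈ Cfsg.Spor.Fi22.extra},
      FreeGroup.lift (fun a => f (Fi22ATable.ix a)) r = 1 := by
  have hlab : ∀ x y : Cfsg.Spor.Fi22.Gen, Cfsg.Spor.coxLabel Cfsg.Spor.Fi22.edges x y =
      if Fi22ATable.ix x = Fi22ATable.ix y then 1
      else if nb (Fi22ATable.ix x) (Fi22ATable.ix y) then 3 else 2 := by
    intro x y; cases x <;> cases y <;> decide +kernel
  rintro r (⟨x, -, y, -, rfl⟩ | hr)
  · have hx : Fi22ATable.ix x < 9 := Fi22ATable.fit.ix_lt x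
    have hy : Fi22ATable.ix y < 9 := Fi22ATable.fit.ix_lt y
    rw [map_pow, map_mul, FreeGroup.lift_apply_of, FreeGroup.lift_apply_of, hlab]
    generalize Fi22ATable.ix x = i at hx ⊢
    generalize Fi22ATable.ix y = j at hy ⊢
    split_ifs with h1 h2
    · subst h1; rw [pow_one, hE.sq i hx]
    · have e := hE.braid i hx j hy h2
      calc (f i * f j) ^ 3 = f i * f j * f i * (f j * f i * f j) := by
            rw [pow_succ, pow_two]; simp only [mul_assoc]
        _ = f i * f j * f i * (f i * f j * f i) := by rw [e]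
        _ = f i * f j * (f i * f i) * (f j * f i) := by simp only [mul_assoc]
        _ = 1 := by
          rw [hE.sq i hx, mul_one, mul_assoc, ← mul_assoc (f j), hE.sq j hy, one_mul, hE.sq i hx]
    · have e := hE.comm i hx j hy h1 (by simpa using h2)
      rw [pow_two]
      nth_rw 2 [e]
      rw [mul_assoc, ← mul_assoc (f j), hE.sq j hy, one_mul, hE.sq i hx]
  · rw [pr_rep] at hA hB
    rw [show spider = rep 10 wS from rfl, pr_rep] at hS
    simp only [Cfsg.Spor.Fi22.extra, Set.mem_ofPred_eq, List.mem_cons, List.not_mem_nil,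
      or_false] at hr
    simp only [pr, wA, wB, wS, List.map_cons, List.map_nil, List.prod_cons, List.prod_nil, mul_one,
      ← mul_assoc] at hA hB hS
    rcases hr with rfl | rfl | rfl
    · simpa [Fi22ATable.ix] using hS
    · simpa [Fi22ATable.ix] using hA
    · simpa [Fi22ATable.ix] using hB

/-- The kernel of a stem extension is generated by an element of sixth power one. -/
theorem exists_ker_gen (σ : Γ →* F22) (hσ : Cfsg.IsStemExtension σ) :
    ∃ g ∈ σ.ker, g ^ 6 = 1 ∧ ∀ z ∈ σ.ker, z ∈ zpowers g := by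
  obtain ⟨f, hf, hE, hA⟩ := exists_good σ hσ
  set u := pr f (rep 9 wB) with hu
  set v := pr f spider with hv
  have hker : ∀ w ∈ [rep 9 wA, rep 9 wB, rep 9 wC, spider], pr f w ∈ σ.ker := fun w hw => by
    rw [MonoidHom.mem_ker, map_pr, pr_congr (g := g22) fun k _ => hf k,
      eq_one_of_triv (words_ok w hw)]
  have huk : u ∈ σ.ker := hker _ (by simp)
  have hvk : v ∈ σ.ker := hker _ (by simp)
  have hvc : ∀ a, a * v = v * a := fun a => mem_center_iff.1 (hσ.2.1 hvk) a
  have hu2 : u ^ 2 = 1 := by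
    rw [pow_two, hu, ← pr_append, show rep 9 wB ++ rep 9 wB = rep 18 wB by decide +kernel,
      pr_of_runW hE certU2_ok, one_pow]
  have hv3 : v ^ 3 = 1 := by
    have h := pr_of_runW hE certV_ok
    have hflat : ∀ l : List (List ℕ × Bool), (∀ q ∈ l, ∀ k ∈ q.1, k < 9) →
        pr f (l.flatMap fun q => bif q.2 then q.1 ++ spider ++ q.1.reverse ++ spider.reverse
          else spider ++ q.1 ++ spider.reverse ++ q.1.reverse) = 1 := by
      intro l
      induction l with
      | nil => intro _; simp [pr]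
      | cons q l ih =>
        intro hl
        rw [List.flatMap_cons, pr_append, ih fun p hp => hl p (List.mem_cons_of_mem _ hp), mul_one]
        obtain ⟨g, b⟩ := q
        have hg : ∀ k ∈ g, f k * f k = 1 := fun k hk => hE.sq k (hl _ List.mem_cons_self k hk)
        have hs : ∀ k ∈ spider, f k * f k = 1 := fun k hk => hE.sq k (spider_lt k hk)
        cases b <;>
          simp only [cond_true, cond_false, pr_append, pr_reverse f g hg, pr_reverse f spider hs, ← hv]
        · rw [← hvc (pr f g)]; group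
        · rw [hvc (pr f g)]; group
    rw [vWord, pr_append, hflat vdec vdec_lt, mul_one, pr_reverse f, pr_rep, ← hv, one_pow,
      inv_eq_one] at h
    · exact h
    · exact fun k hk => hE.sq k ((show ∀ k ∈ rep 3 spider, k < 9 by decide +kernel) k hk)
  -- the subgroup generated by the two
  set g := u * v with hg
  have hgk : g ∈ σ.ker := mul_mem huk hvk
  have hcuv : Commute u v := hvc u
  have hg6 : g ^ 6 = 1 := by
    rw [hg, hcuv.mul_pow, show (6 : ℕ) = 2 * 3 from rfl, pow_mul u, hu2, mul_comm 2 3, pow_mul v,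
      hv3, one_pow, one_pow, one_mul]
  have hu' : g ^ 3 = u := by
    rw [hg, hcuv.mul_pow, hv3, mul_one, pow_succ, hu2, one_mul]
  have hv' : g ^ 4 = v := by
    rw [hg, hcuv.mul_pow, show (4 : ℕ) = 2 * 2 from rfl, pow_mul u, hu2, one_pow, one_mul,
      show 2 * 2 = 3 + 1 from rfl, pow_succ, hv3, one_mul]
  refine ⟨g, hgk, hg6, ?_⟩
  let N : Subgroup Γ := zpowers g
  haveI hN : N.Normal := ⟨fun x hx a => by
    obtain ⟨k, rfl⟩ := mem_zpowers_iff.1 hx
    rw [mem_center_iff.1 (zpow_mem (hσ.2.1 hgk) k) a, mul_inv_cancel_right]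
    exact zpow_mem_zpowers g k⟩
  let q : Γ →* Γ ⧸ N := QuotientGroup.mk' N
  have hq : ∀ x ∈ [u, v], q x = 1 := by
    intro x hx
    simp only [List.mem_cons, List.not_mem_nil, or_false] at hx
    refine (QuotientGroup.eq_one_iff x).2 ?_
    rcases hx with rfl | rfl
    · exact hu' ▸ pow_mem (mem_zpowers g) 3
    · exact hv' ▸ pow_mem (mem_zpowers g) 4
  have hE' : Exact (fun k => q (f k)) 1 :=
    ⟨one_mem _, fun x hx => by rw [← map_mul, hE.sq x hx, map_one],
      fun x hx y hy hne h => by rw [← map_mul, ← map_mul, hE.comm x hx y hy hne h],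
      fun x hx y hy h => by simp only [← map_mul, hE.braid x hx y hy h]⟩
  let τ : F22 →* Γ ⧸ N := PresentedGroup.toGroup
    (relators_eq_one (fun k => q (f k)) hE' (by rw [← map_pr, hA, map_one])
      (by rw [← map_pr]; exact hq u (by simp)) (by rw [← map_pr]; exact hq v (by simp)))
  -- the lifts generate
  let L : Subgroup Γ := closure (f '' {k | k < 9})
  have hLtop : L.map σ = ⊤ := by
    rw [MonoidHom.map_closure, ← Set.image_comp, eq_top_iff,
      ← H93.Fi22ATable.fit.model.generates]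
    refine closure_mono ?_
    rintro x ⟨k, hk, rfl⟩
    exact ⟨k, hk, hf k⟩
  have hdec : ∀ x : Γ, ∃ l ∈ L, ∃ z ∈ σ.ker, x = l * z := fun x => by
    obtain ⟨l, hl, e⟩ := hLtop.ge (mem_top (σ x))
    exact ⟨l, hl, l⁻¹ * x, by rw [MonoidHom.mem_ker, map_mul, map_inv, e, inv_mul_cancel],
      (mul_inv_cancel_left l x).symm⟩
  have hcomm : commutator Γ ≤ L := by
    rw [_root_.commutator_def, commutator_le]
    intro a _ b _
    obtain ⟨l, hl, z, hz, rfl⟩ := hdec a
    obtain ⟨m, hm, w, hw, rfl⟩ := hdec b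
    have key : ∀ (l m z w : Γ), z ∈ center Γ → w ∈ center Γ →
        ⁅l * z, m * w⁆ = ⁅l, m⁆ := by
      intro l m z w hz hw
      simp only [commutatorElement_def, mul_inv_rev]
      have e1 := mem_center_iff.1 hz
      have e2 := mem_center_iff.1 hw
      calc l * z * (m * w) * (z⁻¹ * l⁻¹) * (w⁻¹ * m⁻¹)
          = l * (z * (m * w)) * (z⁻¹ * l⁻¹) * (w⁻¹ * m⁻¹) := by simp only [mul_assoc]
        _ = l * m * (w * l⁻¹) * (w⁻¹ * m⁻¹) := by rw [← e1 (m * w)]; simp only [mul_assoc, mul_inv_cancel_left]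
        _ = l * m * l⁻¹ * m⁻¹ := by rw [← e2 l⁻¹]; simp only [mul_assoc, mul_inv_cancel_left]
    rw [key l m z w (hσ.2.1 hz) (hσ.2.1 hw), commutatorElement_def]
    exact mul_mem (mul_mem (mul_mem hl hm) (inv_mem hl)) (inv_mem hm)
  have hτ : ∀ x, τ (σ x) = q x := by
    intro x
    obtain ⟨l, hl, z, hz, rfl⟩ := hdec x
    have hl' : l * z ∈ L := mul_mem hl (hcomm (hσ.2.2 hz))
    have : L ≤ MonoidHom.eqLocus (τ.comp σ) q := by
      rw [closure_le]
      rintro _ ⟨k, hk, rfl⟩
      obtain ⟨a, rfl⟩ := Fi22ATable.fit.exists_ix (g := k) hk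
      show τ (σ (f (Fi22ATable.ix a))) = q (f (Fi22ATable.ix a))
      rw [hf]
      show τ (coxGen _ _ _ (Fi22ATable.ix a)) = _
      rw [Fi22ATable.fit.gen_ix]
      exact PresentedGroup.toGroup.of _
    exact this hl'
  intro z hz
  have h := hτ z
  rw [MonoidHom.mem_ker.1 hz, map_one] at h
  exact (QuotientGroup.eq_one_iff z).1 h.symm

end H39.Fi22M
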