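import Cfsg.Agent.H93.Fi23Cover
import Cfsg.Agent.H39.Fi22M.Checks
import Cfsg.Agent.H39.Fi22M.Upper

/-!
A stem extension of Fi22 with cyclic kernel of order six: the double cover inside Fi23 glued to a
27-dimensional triple cover.
-/

set_option autoImplicit false
set_option maxRecDepth 100000

namespace H39.Fi22M

open H93 H93.Coset
abbrev U27 : Type := (Matrix (Fin 27) (Fin 27) Q4)ˣ
abbrev Hc : Type := ↥Fi23Cover.H

instance finite_Q4 : Finite Q4 := Finite.of_equiv _ (QuadraticAlgebra.equivProd _ _).symm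
instance finite_Hc : Finite Hc := by haveI := Fi23Cover.finite; infer_instance
instance finite_U27 : Finite U27 :=
  Finite.of_injective (fun u : U27 => u.val) fun _ _ h => Units.ext h

/-- A matrix. -/
abbrev mm (k : ℕ) : Matrix (Fin 27) (Fin 27) Q4 :=
  matB (Rep27.mats.getD k [])

theorem sc4_one : sc4 1 = 1 := by decide +kernel

theorem mm_sq {k : ℕ} (hk : k < 9) : mm k * mm k = 1 := by
  have := wordsB_spec (List.all_eq_true.1 Rep27.sq_ok k (List.mem_range.2 hk))
  simpa [mm, sc4_one] using this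

/-- A matrix as a unit. -/
noncomputable def mu (k : ℕ) : U27 :=
  if h : k < 9 then ⟨mm k, mm k, mm_sq h, mm_sq h⟩ else 1

theorem mu_val {k : ℕ} (hk : k < 9) : (mu k).val = mm k := by rw [mu, dif_pos hk]

theorem pr_mu : ∀ w : List ℕ, (∀ k ∈ w, k < 9) → (pr mu w).val = (w.map mm).prod
  | [], _ => rfl
  | a :: w, h => by
    show (mu a * pr mu w).val = _
    rw [Units.val_mul, mu_val (h a List.mem_cons_self),
      pr_mu w fun k hk => h k (List.mem_cons_of_mem _ hk), List.map_cons, List.prod_cons]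

theorem mu_exact : Exact mu 1 := by
  have key : ∀ x < 9, ∀ y < 9, x ≠ y →
      if nb x y = true then mu x * mu y * mu x = mu y * mu x * mu y else mu x * mu y = mu y * mu x := by
    intro x hx y hy hne
    have h := List.all_eq_true.1 (List.all_eq_true.1 Rep27.pairs_ok x (List.mem_range.2 hx)) y
      (List.mem_range.2 hy)
    rw [Bool.or_eq_true, beq_iff_eq] at h
    replace h := h.resolve_left hne
    split_ifs with hn <;> refine Units.ext ?_
    · rw [hn, cond_true] at h
      have := wordsB_spec h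
      simpa [mm, sc4_one, mu_val hx, mu_val hy, mul_assoc] using this
    · rw [Bool.not_eq_true] at hn
      rw [hn, cond_false] at h
      have := wordsB_spec h
      simpa [mm, sc4_one, mu_val hx, mu_val hy] using this
  refine ⟨one_mem _, fun x hx => Units.ext ?_, fun x hx y hy hne h => ?_, fun x hx y hy h => ?_⟩
  · rw [Units.val_mul, mu_val hx, mm_sq hx, Units.val_one]
  · simpa [h] using key x hx y hy hne
  · have hne : x ≠ y := fun e => by rw [← e, adj_ok.2.1 x hx] at h; exact absurd h (by decide)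
    simpa [h] using key x hx y hy hne

theorem pr_scalar {w : List ℕ} (hw : ∀ k ∈ w, k < 9) {c : ℕ}
    (h : wordsB Rep27.mats w [] c = true) : (pr mu w).val = sc4 c • 1 := by
  rw [pr_mu w hw]; exact wordsB_spec h

theorem rel_lt : ∀ w ∈ [rep 9 wA, rep 9 wB, spider], ∀ k ∈ w, k < 9 := by decide +kernel

/-- The quotient by the centre. -/
noncomputable abbrev toPGL : U27 →* U27 ⧸ Subgroup.center U27 := QuotientGroup.mk' _

theorem toPGL_scalar {u : U27} {c : Q4} (h : u.val = c • 1) : toPGL u = 1 := by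
  refine (QuotientGroup.eq_one_iff u).2 (Subgroup.mem_center_iff.2 fun v => Units.ext ?_)
  rw [Units.val_mul, Units.val_mul, h, Matrix.mul_smul, Matrix.smul_mul, mul_one, one_mul]

/-- The projective representation. -/
noncomputable def ψ : F22 →* U27 ⧸ Subgroup.center U27 :=
  PresentedGroup.toGroup (relators_eq_one (fun k => toPGL (mu k))
    ⟨one_mem _, fun x hx => by rw [← map_mul, mu_exact.sq x hx, map_one],
      fun x hx y hy hne h => by rw [← map_mul, ← map_mul, mu_exact.comm x hx y hy hne h],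
      fun x hx y hy h => by simp only [← map_mul, mu_exact.braid x hx y hy h]⟩
    (by rw [← map_pr]; exact toPGL_scalar (pr_scalar (rel_lt _ (by simp)) Rep27.wA_ok))
    (by rw [← map_pr]; exact toPGL_scalar (pr_scalar (rel_lt _ (by simp)) Rep27.wB_ok))
    (by rw [← map_pr]; exact toPGL_scalar (pr_scalar (rel_lt _ (by simp)) Rep27.spider_ok)))

theorem ψ_of (a : Cfsg.Spor.Fi22.Gen) :
    ψ (PresentedGroup.of a) = toPGL (mu (Fi22ATable.ix a)) := by
  rw [ψ, PresentedGroup.toGroup.of]

/-- The projection of the ambient group. -/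
noncomputable def projA : Hc × U27 →* F22 :=
  (Fi23Cover.quotEquiv.symm.toMonoidHom.comp (QuotientGroup.mk' Fi23Cover.Z)).comp
    (MonoidHom.fst Hc U27)

/-- A generator. -/
noncomputable def tgen (k : ℕ) : Hc × U27 := (Fi23Cover.hgen k, mu k)

theorem projA_tgen {k : ℕ} (hk : k < 9) : projA (tgen k) = g22 k := by
  obtain ⟨a, rfl⟩ := Fi22ATable.fit.exists_ix (g := k) hk
  show Fi23Cover.quotEquiv.symm (QuotientGroup.mk' Fi23Cover.Z (Fi23Cover.hgen _)) =
    coxGen _ _ _ (Fi22ATable.ix a)
  rw [Fi22ATable.fit.gen_ix, MulEquiv.symm_apply_eq]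
  exact (PresentedGroup.toGroup.of Fi23Cover.toQuot_rel).symm

/-- The cover. -/
noncomputable def T : Subgroup (Hc × U27) := Subgroup.closure (tgen '' {k | k < 9})

/-- A generator in the cover. -/
noncomputable def tg (k : ℕ) : T :=
  if h : k < 9 then ⟨tgen k, Subgroup.subset_closure ⟨k, h, rfl⟩⟩ else 1

theorem tg_val {k : ℕ} (hk : k < 9) : (tg k).1 = tgen k := by rw [tg, dif_pos hk]

theorem pr_tg_fst {w : List ℕ} (hw : ∀ k ∈ w, k < 9) :
    (pr tg w).1.1 = ev Fi23Cover.hgen w.reverse := by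
  rw [← pr_eq_ev]
  show ((MonoidHom.fst Hc U27).comp T.subtype) (pr tg w) = _
  rw [map_pr]
  exact pr_congr fun k hk => congrArg Prod.fst (tg_val (hw k hk))

theorem pr_tg_snd {w : List ℕ} (hw : ∀ k ∈ w, k < 9) : (pr tg w).1.2 = pr mu w := by
  show ((MonoidHom.snd Hc U27).comp T.subtype) (pr tg w) = _
  rw [map_pr]
  exact pr_congr fun k hk => congrArg Prod.snd (tg_val (hw k hk))

/-- The projection. -/
noncomputable def proj : T →* F22 := projA.comp T.subtype

theorem proj_tg {k : ℕ} (hk : k < 9) : proj (tg k) = g22 k := by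
  show projA (tg k).1 = _
  rw [tg_val hk, projA_tgen hk]

theorem proj_surjective : Function.Surjective proj := by
  rw [← MonoidHom.range_eq_top, eq_top_iff, ← H93.Fi22ATable.fit.model.generates,
    Subgroup.closure_le]
  rintro x ⟨k, hk, rfl⟩
  exact ⟨tg k, proj_tg hk⟩

theorem snd_inv {x : Hc × U27} (hx : x ∈ T) : toPGL x.2 = ψ (projA x) := by
  have : T ≤ MonoidHom.eqLocus (toPGL.comp (MonoidHom.snd Hc U27)) (ψ.comp projA) := by
    rw [T, Subgroup.closure_le]
    rintro _ ⟨k, hk, rfl⟩
    show toPGL (mu k) = ψ (projA (tgen k))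
    obtain ⟨a, rfl⟩ := Fi22ATable.fit.exists_ix (g := k) hk
    rw [projA_tgen hk, show g22 (Fi22ATable.ix a) = PresentedGroup.of a from Fi22ATable.fit.gen_ix a]
    exact (ψ_of a).symm
  exact this hx

theorem ker_le_center : proj.ker ≤ Subgroup.center T := by
  intro x hx
  have hp : projA x.1 = 1 := hx
  have h2 : x.1.2 ∈ Subgroup.center U27 :=
    (QuotientGroup.eq_one_iff _).1 ((snd_inv x.2).trans (by rw [hp, map_one]))
  have h1 : x.1.1 ∈ Subgroup.center Hc := by
    rw [Fi23Cover.center_eq]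
    refine (QuotientGroup.eq_one_iff _).1 (Fi23Cover.quotEquiv.symm.injective ?_)
    rw [map_one]; exact hp
  rw [Subgroup.mem_center_iff]
  exact fun y => Subtype.ext (Prod.ext (Subgroup.mem_center_iff.1 h1 _) (Subgroup.mem_center_iff.1 h2 _))

theorem base_edges : ∀ q ∈ adj,
    Fi23Cover.baseOne ((expand ([q.1, q.2], 3)).map fun k => Fi23Cover.hl.getD k 0) = true ∧
      (∀ k ∈ expand ([q.1, q.2], 3), k < 9) := by decide +kernel

theorem base_wA : Fi23Cover.baseOne ((rep 9 wA).reverse.map fun k => Fi23Cover.hl.getD k 0) = true := by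
  decide +kernel

theorem word_wB : (rep 9 wB).reverse.map (fun k => Fi23Cover.hl.getD k 0) = Fi23Cover.zw := by
  decide +kernel

theorem hgen_word_one {w : List ℕ} (hw : ∀ k ∈ w, k < 9)
    (h : Fi23Cover.baseOne (w.map fun k => Fi23Cover.hl.getD k 0) = true) :
    ev Fi23Cover.hgen w = 1 :=
  Subtype.ext (by rw [Fi23Cover.ev_hgen hw, Fi23Cover.baseOne_spec h]; rfl)

theorem tg_sq {k : ℕ} (hk : k < 9) : tg k * tg k = 1 := by
  refine Subtype.ext ?_
  rw [Subgroup.coe_mul, tg_val hk]
  exact Prod.ext (Fi23Cover.hgen_sq hk) (mu_exact.sq k hk)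

theorem T_perfect : commutator T = ⊤ := by
  set θ := Abelianization.of (G := T) with hθ
  have hsq : ∀ k < 9, θ (tg k) * θ (tg k) = 1 := fun k hk => by rw [← map_mul, tg_sq hk, map_one]
  have hedge : ∀ q ∈ adj, θ (tg q.1) = θ (tg q.2) := by
    intro q hq
    obtain ⟨hb, hlt⟩ := base_edges q hq
    obtain ⟨h1, h2, hne⟩ := adj_ok.1 q hq
    have hlt' : ∀ k ∈ (expand ([q.1, q.2], 3)).reverse, k < 9 := fun k hk => hlt k (by simpa using hk)
    have hone : pr tg (expand ([q.1, q.2], 3)).reverse = 1 := by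
      refine Subtype.ext (Prod.ext ?_ ?_)
      · rw [pr_tg_fst hlt', List.reverse_reverse]; exact hgen_word_one hlt hb
      · rw [pr_tg_snd hlt']
        show pr mu _ = 1
        have e := mu_exact.braid q.1 h1 q.2 h2 (by
          simp only [nb, Bool.or_eq_true, List.contains_iff_mem]; exact Or.inl hq)
        have s1 := mu_exact.sq q.1 h1
        have s2 := mu_exact.sq q.2 h2
        simp only [expand, List.replicate, List.flatten_cons, List.flatten_nil, List.append_nil,
          List.cons_append, List.nil_append, List.reverse_cons, List.reverse_nil, pr, List.map_cons,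
          List.map_nil, List.prod_cons, List.prod_nil, mul_one]
        calc mu q.2 * (mu q.1 * (mu q.2 * (mu q.1 * (mu q.2 * mu q.1))))
            = mu q.2 * mu q.1 * mu q.2 * (mu q.1 * mu q.2 * mu q.1) := by simp only [mul_assoc]
          _ = mu q.2 * mu q.1 * mu q.2 * (mu q.2 * mu q.1 * mu q.2) := by rw [e]
          _ = mu q.2 * mu q.1 * (mu q.2 * mu q.2) * (mu q.1 * mu q.2) := by simp only [mul_assoc]
          _ = 1 := by
            rw [s2, mul_one, mul_assoc, ← mul_assoc (mu q.1), s1, one_mul, s2]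
    have h := congrArg θ hone
    rw [map_pr, map_one] at h
    simp only [expand, List.replicate, List.flatten_cons, List.flatten_nil, List.append_nil,
      List.cons_append, List.nil_append, List.reverse_cons, List.reverse_nil, pr, List.map_cons,
      List.map_nil, List.prod_cons, List.prod_nil, mul_one] at h
    have ha := hsq q.1 h1
    have hb2 := hsq q.2 h2
    generalize θ (tg q.1) = x at h ha ⊢
    generalize θ (tg q.2) = y at h hb2 ⊢
    have h' : y * x * (y * x * (y * x)) = 1 := by simpa only [mul_assoc] using h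
    have h2' : y * x * (y * x) = 1 := by rw [mul_mul_mul_comm, ha, hb2, one_mul]
    rw [h2', mul_one] at h'
    calc x = y * y * x := by rw [hb2, one_mul]
      _ = y := by rw [mul_assoc, h', mul_one]
  have hall : ∀ k < 9, θ (tg k) = θ (tg 0) := by
    have m := fun x y (h : (x, y) ∈ adj) => hedge (x, y) h
    have e01 := m 0 1 (by decide)
    have e12 := m 1 2 (by decide)
    have e23 := m 2 3 (by decide)
    have e34 := m 3 4 (by decide)
    have e45 := m 4 5 (by decide)
    have e56 := m 5 6 (by decide)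
    have e37 := m 3 7 (by decide)
    have e78 := m 7 8 (by decide)
    intro k hk
    interval_cases k <;> simp only [← e78, ← e37, ← e56, ← e45, ← e34, ← e23, ← e12, ← e01]
  have hA : pr tg (rep 9 wA) = 1 := by
    have hl : ∀ k ∈ rep 9 wA, k < 9 := rel_lt _ (by simp)
    refine Subtype.ext (Prod.ext ?_ ?_)
    · rw [pr_tg_fst hl]; exact hgen_word_one (fun k hk => hl k (by simpa using hk)) base_wA
    · rw [pr_tg_snd hl]
      refine Units.ext ?_
      rw [pr_scalar hl Rep27.wA_ok, sc4_one, one_smul]; rfl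
  have h0 : θ (tg 0) = 1 := by
    have h := congrArg θ hA
    rw [map_pr, map_one, pr_congr (g := fun _ => θ (tg 0)) fun k hk => hall k (rel_lt _ (by simp) k hk)]
      at h
    rw [pr, List.map_const', List.prod_replicate, show (rep 9 wA).length = 2 * 31 + 1 from rfl,
      pow_succ, pow_mul, pow_two, hsq 0 (by norm_num), one_pow, one_mul] at h
    exact h
  have htop : (⊤ : Subgroup T) ≤ θ.ker := by
    refine (Subgroup.closure_closure_coe_preimage (k := tgen '' {k | k < 9})).ge.trans
      ((Subgroup.closure_le _).2 ?_)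
    rintro x ⟨k, hk, e⟩
    have hx : x = tg k := Subtype.ext (by rw [tg_val hk, ← e])
    exact (congrArg θ hx).trans ((hall k hk).trans h0)
  rw [eq_top_iff]
  rw [hθ, Abelianization.ker_of] at htop
  exact htop

theorem proj_word {w : List ℕ} (hw : ∀ k ∈ w, k < 9) : proj (pr tg w) = pr g22 w := by
  rw [map_pr]; exact pr_congr fun k hk => proj_tg (hw k hk)

theorem proj_stem : Cfsg.IsStemExtension proj :=
  ⟨proj_surjective, ker_le_center, by rw [T_perfect]; exact le_top⟩

theorem hasCyclicSchurMultiplier_Fi22 : Cfsg.HasCyclicSchurMultiplier F22 6 := by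
  classical
  obtain ⟨g, hgk, hg6, hgen⟩ := exists_ker_gen proj proj_stem
  haveI hcyc : IsCyclic proj.ker := ⟨⟨⟨g, hgk⟩, fun z => by
    obtain ⟨n, hn⟩ := Subgroup.mem_zpowers_iff.1 (hgen z.1 z.2)
    exact Subgroup.mem_zpowers_iff.2 ⟨n, Subtype.ext (by simpa using hn)⟩⟩⟩
  have hdvd : Nat.card proj.ker ∣ 6 := by
    obtain ⟨x, hx⟩ := hcyc.exists_generator
    rw [← orderOf_eq_card_of_forall_mem_zpowers hx]
    refine orderOf_dvd_of_pow_eq_one (Subtype.ext ?_)
    obtain ⟨n, hn⟩ := Subgroup.mem_zpowers_iff.1 (hgen x.1 x.2)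
    rw [SubmonoidClass.coe_pow, ← hn, ← zpow_natCast, ← zpow_mul, mul_comm, zpow_mul, zpow_natCast,
      hg6, one_zpow, Subgroup.coe_one]
  have hk : ∀ w ∈ [rep 9 wA, rep 9 wB, rep 9 wC, spider], (∀ k ∈ w, k < 9) → pr tg w ∈ proj.ker :=
    fun w hw hl => by rw [MonoidHom.mem_ker, proj_word hl, eq_one_of_triv (words_ok w hw)]
  have hlB : ∀ k ∈ rep 9 wB, k < 9 := rel_lt _ (by simp)
  have hlS : ∀ k ∈ spider, k < 9 := rel_lt _ (by simp)
  let y2 : proj.ker := ⟨pr tg (rep 9 wB), hk _ (by simp) hlB⟩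
  let y3 : proj.ker := ⟨pr tg spider, hk _ (by simp) hlS⟩
  let f2 : proj.ker →* Hc := ((MonoidHom.fst Hc U27).comp T.subtype).comp proj.ker.subtype
  let f3 : proj.ker →* U27 := ((MonoidHom.snd Hc U27).comp T.subtype).comp proj.ker.subtype
  have e2 : f2 y2 = Fi23Cover.zH := by
    show (pr tg (rep 9 wB)).1.1 = _
    rw [pr_tg_fst hlB]
    refine Subtype.ext ?_
    rw [Fi23Cover.ev_hgen (fun k hk => hlB k (by simpa using hk)), word_wB]
  have e3 : (f3 y3).val = sc4 3 • 1 := by
    show (pr tg spider).1.2.val = _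
    rw [pr_tg_snd hlS, pr_scalar hlS Rep27.spider_ok]
  have hent : ∀ c : Q4, (c • (1 : Matrix (Fin 27) (Fin 27) Q4)) ⟨0, by decide⟩
      ⟨0, by decide⟩ = c := fun c => by simp
  have o3 : orderOf (f3 y3) = 3 := by
    haveI := Fact.mk Nat.prime_three
    refine orderOf_eq_prime (Units.ext ?_) fun h => ?_
    · rw [Units.val_pow_eq_pow_val, e3, smul_pow, one_pow,
        show sc4 3 ^ 3 = 1 by decide +kernel, one_smul]; rfl
    · have := congrArg Units.val h
      rw [e3, Units.val_one] at this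
      have h2 := congrFun (congrFun this ⟨0, by decide⟩) ⟨0, by decide⟩
      rw [hent, Matrix.one_apply_eq] at h2
      revert h2
      decide +kernel
  have d2 : 2 ∣ Nat.card proj.ker := by
    have := (orderOf_map_dvd f2 y2).trans (orderOf_dvd_natCard y2)
    rwa [e2, Fi23Cover.zH_order] at this
  have d3 : 3 ∣ Nat.card proj.ker := o3 ▸ (orderOf_map_dvd f3 y3).trans (orderOf_dvd_natCard y3)
  have hcard : Nat.card proj.ker = 6 :=
    Nat.dvd_antisymm hdvd ((show Nat.Coprime 2 3 by decide).mul_dvd_of_dvd_of_dvd d2 d3)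
  refine ⟨⟨T, inferInstance, inferInstance, proj, proj_stem, ⟨?_⟩⟩, fun Γ _ _ σ hσ => ?_⟩
  · exact (mulEquivOfCyclicCardEq (G := proj.ker) (G' := Multiplicative (ZMod 6))
      (by rw [hcard, Nat.card_congr Multiplicative.toAdd, Nat.card_zmod]))
  · obtain ⟨h, hh, h6, hgen'⟩ := exists_ker_gen σ hσ
    let φ := (ZMod.lift 6 ⟨zmultiplesHom _ (Additive.ofMul (⟨h, hh⟩ : σ.ker)), by
      rw [zmultiplesHom_apply, ← ofMul_zpow, zpow_natCast,
        show (⟨h, hh⟩ : σ.ker) ^ 6 = 1 from Subtype.ext h6]; rfl⟩).toMultiplicativeLeft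
    refine ⟨φ, fun z => ?_⟩
    obtain ⟨k, hk'⟩ := Subgroup.mem_zpowers_iff.1 (hgen' z.1 z.2)
    refine ⟨Multiplicative.ofAdd (k : ZMod 6), ?_⟩
    show Additive.toMul (ZMod.lift 6 _ (k : ZMod 6)) = z
    rw [ZMod.lift_coe, zmultiplesHom_apply, ← ofMul_zpow]
    exact Subtype.ext (by simpa using hk')

end H39.Fi22M
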