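import Cfsg.Agent.H39.Fi22M.Bits

/-!
Data: matrices over the field of four elements generating a triple cover of Fi22.
-/

set_option maxRecDepth 20000
set_option autoImplicit false

namespace H39.Fi22M.Rep27

/-- Columns. -/
def col0 : List ℕ := [
    186916708286465, 657508087638015, 1431564273654271, 2610240738827903, 4875234692115167, 3947246878990255,
    9381033342743903, 6212240832277431, 10718039482906087, 7390917297450683, 11896715948078955, 8164973483465405,
    12670772134092141, 14161709901359059, 369164470974, 736417731950, 14935766087317973, 9958803104214,
    16114442552295001, 36502246450778, 17451448691670945, 44817575827548, 142099393210274, 150414719965604,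
    176958155316776, 186180524010128, 186547743733056]

/-- Columns. -/
def col1 : List ℕ := [
    2, 1, 4, 8, 16, 32,
    64, 128, 256, 512, 1024, 16384,
    32768, 8192, 2048, 4096, 131072, 65536,
    524288, 262144, 4194304, 2097152, 1048576, 8388608,
    16777216, 33554432, 67108864]

/-- Columns. -/
def col2 : List ℕ := [
    1, 4, 2, 8, 16, 32,
    64, 128, 256, 2048, 4096, 512,
    1024, 65536, 16384, 32768, 8192, 131072,
    262144, 2097152, 1048576, 524288, 8388608, 4194304,
    16777216, 33554432, 67108864]

/-- Columns. -/
def col3 : List ℕ := [
    1, 2, 8, 4, 16, 32,
    64, 512, 1024, 128, 256, 2048,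
    4096, 8192, 16384, 32768, 262144, 524288,
    65536, 131072, 1048576, 2097152, 4194304, 16777216,
    8388608, 33554432, 67108864]

/-- Columns. -/
def col4 : List ℕ := [
    1, 2, 4, 16, 8, 128,
    64, 32, 256, 512, 8192, 2048,
    65536, 1024, 16384, 131072, 4096, 32768,
    262144, 524288, 1048576, 2097152, 4194304, 8388608,
    33554432, 16777216, 67108864]

/-- Columns. -/
def col5 : List ℕ := [
    1, 2, 4, 8, 64, 32,
    16, 256, 128, 1024, 512, 4096,
    2048, 8192, 32768, 16384, 65536, 131072,
    262144, 524288, 1048576, 2097152, 4194304, 8388608,
    16777216, 67108864, 33554432]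

/-- Columns. -/
def col6 : List ℕ := [
    186547609537215, 656588830425791, 1438753914636479, 2643921737894463, 4918124100995743, 4086506763340463,
    9007203418617183, 6360709126441655, 9007221682976231, 7565876949699259, 9007273768433515, 8348042033908413,
    9007480201125229, 9007287744014291, 8818083254782654, 9009404484179310, 9007494176651733, 9009418459668950,
    9007546261913177, 9009470544733786, 9007564525485985, 9009676975855708, 9009488805423010, 9009695233923492,
    9009747310992936, 9009761269803664, 9004630998496576]

/-- Columns. -/
def col7 : List ℕ := [
    1, 2, 4, 32, 128, 8,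
    256, 16, 64, 512, 1024, 2048,
    4096, 8192, 16384, 32768, 65536, 131072,
    1048576, 4194304, 262144, 8388608, 524288, 2097152,
    16777216, 33554432, 67108864]

/-- Columns. -/
def col8 : List ℕ := [
    140737488355328, 562949953421312, 1125899906842624, 2251799813685248, 4503599627370496, 32,
    9007199254740992, 128, 256, 512, 1024, 2048,
    4096, 8192, 16384, 32768, 65536, 131072,
    262144, 524288, 134217729, 2097152, 268435458, 536870916,
    1073741832, 2147483664, 8589934656]

/-- The matrices. -/
def mats : List (List ℕ) := [col0, col1, col2, col3, col4, col5, col6, col7, col8]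

end H39.Fi22M.Rep27
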