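import Mathlib.Algebra.Group.Subgroup.Basic
import Mathlib.GroupTheory.Subgroup.Center
import Mathlib.Algebra.BigOperators.Group.List.Basic
import Mathlib.Tactic.Group

/-!
Rewriting of words in generators with commutations, braid relations and one central square.
-/

set_option autoImplicit false

namespace H39.Fi22M

/-- The product of a word. -/
def pr {M : Type*} [Monoid M] (f : ℕ → M) (w : List ℕ) : M := (w.map f).prod

theorem pr_append {M : Type*} [Monoid M] (f : ℕ → M) (u v : List ℕ) :
    pr f (u ++ v) = pr f u * pr f v := by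
  rw [pr, List.map_append, List.prod_append]; rfl

theorem map_pr {M N : Type*} [Monoid M] [Monoid N] (φ : M →* N) (f : ℕ → M) (w : List ℕ) :
    φ (pr f w) = pr (fun k => φ (f k)) w := by
  rw [pr, map_list_prod, List.map_map]; rfl

theorem pr_congr {M : Type*} [Monoid M] {f g : ℕ → M} {w : List ℕ} (h : ∀ k ∈ w, f k = g k) :
    pr f w = pr g w := by
  rw [pr, pr, List.map_congr_left h]

/-- The adjacent pairs of the diagram. -/
def adj : List (ℕ × ℕ) := [(0, 1), (1, 2), (2, 3), (3, 4), (3, 7), (4, 5), (5, 6), (7, 8)]

/-- Adjacency. -/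
def nb (x y : ℕ) : Bool := adj.contains (x, y) || adj.contains (y, x)

/-- Move the cursor to the right. -/
def shR : ℕ → List ℕ × List ℕ → List ℕ × List ℕ
  | 0, z => z
  | _ + 1, (l, []) => (l, [])
  | k + 1, (l, a :: r) => shR k (a :: l, r)

/-- Move the cursor to the left. -/
def shL : ℕ → List ℕ × List ℕ → List ℕ × List ℕ
  | 0, z => z
  | _ + 1, ([], r) => ([], r)
  | k + 1, (a :: l, r) => shL k (l, a :: r)

/-- The word with a cursor. -/
def word (z : List ℕ × List ℕ) : List ℕ := z.1.reverse ++ z.2

/-- One rewriting step at the cursor: 0 deletes a square, 1 commutes, 2 braids. -/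
def act (k : ℕ) : List ℕ × List ℕ → Option ((List ℕ × List ℕ) × Bool)
  | (l, a :: b :: r) =>
    match k with
    | 0 => if a < 9 ∧ b = a then some ((l, r), true) else none
    | 1 => if a < 9 ∧ b < 9 ∧ a ≠ b ∧ nb a b = false then some ((l, b :: a :: r), false) else none
    | _ =>
      match r with
      | c :: r' =>
        if a < 9 ∧ b < 9 ∧ nb a b = true ∧ c = a then some ((l, b :: a :: b :: r'), false) else none
      | [] => none
  | _ => none

/-- Several steps, each coded by `kind + 3 * (direction + 2 * distance)`, ending in the empty word;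
the number counts deleted squares. -/
def runW : List ℕ → List ℕ × List ℕ → ℕ → Option ℕ
  | [], ([], []), n => some n
  | [], _, _ => none
  | m :: ms, z, n =>
    match act (m % 3) (if m / 3 % 2 = 0 then shR (m / 6) z else shL (m / 6) z) with
    | none => none
    | some (z', true) => runW ms z' (n + 1)
    | some (z', false) => runW ms z' n

/-- The relations that hold exactly, up to one central square. -/
structure Exact {Γ : Type*} [Group Γ] (f : ℕ → Γ) (s : Γ) : Prop where
  cen : s ∈ Subgroup.center Γ
  sq : ∀ x < 9, f x * f x = s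
  comm : ∀ x < 9, ∀ y < 9, x ≠ y → nb x y = false → f x * f y = f y * f x
  braid : ∀ x < 9, ∀ y < 9, nb x y = true → f x * f y * f x = f y * f x * f y

theorem braid_apply {M : Type*} [Semigroup M] {a b : M} (h : a * b * a = b * a * b) (z : M) :
    a * (b * (a * z)) = b * (a * (b * z)) := by
  simp only [← mul_assoc, h]

theorem word_shR : ∀ (k : ℕ) (z : List ℕ × List ℕ), word (shR k z) = word z
  | 0, _ => rfl
  | _ + 1, (_, []) => rfl
  | k + 1, (l, a :: r) => by rw [shR, word_shR k]; simp [word]

theorem word_shL : ∀ (k : ℕ) (z : List ℕ × List ℕ), word (shL k z) = word z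
  | 0, _ => rfl
  | _ + 1, ([], _) => rfl
  | k + 1, (a :: l, r) => by rw [shL, word_shL k]; simp [word]

theorem act_spec {Γ : Type*} [Group Γ] {f : ℕ → Γ} {s : Γ} (h : Exact f s) {k : ℕ}
    {z z' : List ℕ × List ℕ} {b : Bool} (he : act k z = some (z', b)) :
    pr f (word z) = s ^ b.toNat * pr f (word z') := by
  have hcons : ∀ a (r : List ℕ), pr f (a :: r) = f a * pr f r := fun a r => by simp [pr]
  obtain ⟨l, R⟩ := z
  rcases R with _ | ⟨a, _ | ⟨c, r⟩⟩ <;> simp only [act] at he <;> try (simp at he; done)
  rcases k with _ | _ | k <;> simp only at he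
  · split_ifs at he with hc
    obtain ⟨ha, rfl⟩ := hc
    simp only [Option.some.injEq, Prod.mk.injEq] at he
    obtain ⟨rfl, rfl⟩ := he
    simp only [word, pr_append, hcons, Bool.toNat_true, pow_one]
    rw [← mul_assoc (f _), h.sq _ ha, ← mul_assoc, Subgroup.mem_center_iff.1 h.cen, mul_assoc]
  · split_ifs at he with hc
    obtain ⟨ha, hb, hne, hn⟩ := hc
    simp only [Option.some.injEq, Prod.mk.injEq] at he
    obtain ⟨rfl, rfl⟩ := he
    simp only [word, pr_append, hcons, Bool.toNat_false, pow_zero, one_mul]
    rw [← mul_assoc (f _), h.comm _ ha _ hb hne hn, mul_assoc]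
  · rcases r with _ | ⟨d, r⟩ <;> simp only at he
    · simp at he
    split_ifs at he with hc
    obtain ⟨ha, hb, hn, rfl⟩ := hc
    simp only [Option.some.injEq, Prod.mk.injEq] at he
    obtain ⟨rfl, rfl⟩ := he
    simp only [word, pr_append, hcons, Bool.toNat_false, pow_zero, one_mul]
    rw [braid_apply (h.braid _ ha _ hb hn)]

theorem runW_spec {Γ : Type*} [Group Γ] {f : ℕ → Γ} {s : Γ} (h : Exact f s) : ∀ (ms : List ℕ)
    {z : List ℕ × List ℕ} {n k : ℕ}, runW ms z n = some k → s ^ n * pr f (word z) = s ^ k := by
  intro ms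
  induction ms with
  | nil =>
    intro z n k he
    obtain ⟨l, r⟩ := z
    rcases l with _ | ⟨a, l⟩ <;> rcases r with _ | ⟨b, r⟩ <;> simp [runW] at he
    subst he
    simp [word, pr]
  | cons m ms ih =>
    intro z n k he
    have hz : word (if m / 3 % 2 = 0 then shR (m / 6) z else shL (m / 6) z) = word z := by
      split_ifs
      · exact word_shR _ _
      · exact word_shL _ _
    simp only [runW] at he
    split at he
    · exact absurd he (by simp)
    · rename_i u heq
      rw [← hz, act_spec h heq, ← ih he, Bool.toNat_true, pow_one, pow_succ, mul_assoc]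
    · rename_i u heq
      rw [← hz, act_spec h heq, ← ih he, Bool.toNat_false, pow_zero, one_mul]

theorem pr_of_runW {Γ : Type*} [Group Γ] {f : ℕ → Γ} {s : Γ} (h : Exact f s) {ms w : List ℕ}
    {k : ℕ} (he : runW ms ([], w) 0 = some k) : pr f w = s ^ k := by
  have := runW_spec h ms he
  simpa [word] using this

end H39.Fi22M
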